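import Groth.Agent.CycDim.PushRat
import Groth.Agent.CycDim.FibreDeg
import Groth.Agent.EtaPt.UnivHomeo
import Groth.Agent.GeomConnSep.Basic
import Groth.Prelude.Def_ChowOps

/-!
Chow groups along a finite purely inseparable extension of the base field: `f_* f^* = f^* f_* = [E : k]`.
-/

set_option autoImplicit false
set_option backward.isDefEq.respectTransparency false
set_option linter.style.haveILetI false

universe u

open CategoryTheory CategoryTheory.Limits AlgebraicGeometry TopologicalSpace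

noncomputable section

namespace Groth.Agent.PInsepChow

variable {X X' : Scheme.{u}}

/-- The fibres of a finite flat bijective morphism: length times residue degree. -/
theorem length_mul_residueDegree (f : X' ⟶ X) [IsFinite f] [Flat f] (hinj : Function.Injective f)
    (d : ℕ) (hd : ∀ x, f.finrank x = d) (x' : X') :
    f.residueDegree x' ≠ 0 ∧ ((Module.length (X'.presheaf.stalk x') (X'.presheaf.stalk x' ⧸
      Ideal.map (f.stalkMap x').hom (IsLocalRing.maximalIdeal (X.presheaf.stalk (f x'))))).toNat : ℤ) *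
      (f.residueDegree x' : ℤ) = (d : ℤ) := by
  obtain ⟨-, hne, hsum⟩ := CycFin.fibre_degree f (f x')
  have hs : (f ⁻¹' {f x'} : Set X') = {x'} :=
    Set.ext fun z => ⟨fun h => hinj h, fun h => by rw [Set.mem_singleton_iff] at h; subst h; rfl⟩
  rw [hs, finsum_mem_singleton, hd] at hsum
  exact ⟨hne x' rfl, by exact_mod_cast hsum⟩

/-- `δ` does not change along a map with finite residue extensions. -/
theorem delta_eq (f : X' ⟶ X) {δ' : X' → ℤ} {δ : X → ℤ} (h : Cyc.DeltaCompat f δ' δ) {x' : X'}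
    (hne : f.residueDegree x' ≠ 0) : δ' x' = δ (f x') := by
  obtain ⟨n, hn, hd⟩ := h x'
  letI := (f.residueFieldMap x').hom.toAlgebra
  haveI : Module.Finite (X.residueField (f x')) (X'.residueField x') :=
    Module.finite_of_finrank_pos (Nat.pos_of_ne_zero hne)
  have h0 : Algebra.trdeg (X.residueField (f x')) (X'.residueField x') = 0 :=
    trdeg_eq_zero_iff.mpr inferInstance
  rw [hn] at h0
  rw [Nat.cast_eq_zero] at h0
  rw [hd, h0, Nat.cast_zero, add_zero]

theorem main {δ : X → ℤ} {δ' : X' → ℤ} (f : X' ⟶ X) [IsFinite f] [Flat f]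
    (hbij : Function.Bijective f) (d : ℕ) (hdeg : ∀ x, f.finrank x = d)
    [IsLocallyNoetherian X] [IsLocallyNoetherian X'] [CompactSpace X']
    (hX : Cyc.IsDimFun X δ) (hX' : Cyc.IsDimFun X' δ') (hδ : Cyc.DeltaCompat f δ' δ) (i : ℤ) :
    (∀ (β : AlgebraicCycle X' ℤ) (hβ : β ∈ Cyc.Zk X' δ' i),
        ∃ (α : AlgebraicCycle X ℤ) (_ : α ∈ Cyc.Zk X δ i) (α' : AlgebraicCycle X' ℤ)
          (hα' : α' ∈ Cyc.Zk X' δ' i),
          ⇑α' = Cyc.pullFun f δ' δ 0 ⇑α ∧ ChowOps.cl α' hα' = d • ChowOps.cl β hβ) ∧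
      ∀ (α : AlgebraicCycle X ℤ) (hα : α ∈ Cyc.Zk X δ i) (α' : AlgebraicCycle X' ℤ) (hα' : α' ∈ Cyc.Zk X' δ' i),
        ⇑α' = Cyc.pullFun f δ' δ 0 ⇑α → ChowOps.cl α' hα' = 0 → d • ChowOps.cl α hα = 0 := by
  classical
  let e := Equiv.ofBijective f hbij
  have hf : ∀ x', e.symm (f x') = x' := fun x' => e.symm_apply_apply x'
  have hf' : ∀ x, f (e.symm x) = x := fun x => e.apply_symm_apply x
  have hlen := length_mul_residueDegree f hbij.1 d hdeg
  have hδeq : ∀ x', δ' x' = δ (f x') := fun x' => delta_eq f hδ (hlen x').1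
  -- the direct image
  let P : AlgebraicCycle X' ℤ → AlgebraicCycle X ℤ := fun β =>
    CycLim.mkCycle (fun x => β (e.symm x) * (f.residueDegree (e.symm x) : ℤ)) fun {U} _ =>
      ((CycLim.finite_support β).image f).subset fun x hx =>
        ⟨e.symm x, fun h0 => hx.2 (by rw [h0, zero_mul]), hf' x⟩
  have hPk : ∀ β, β ∈ Cyc.Zk X' δ' i → P β ∈ Cyc.Zk X δ i := fun β hβ x hx => by
    show β (e.symm x) * _ = 0
    rw [hβ _ (by rw [hδeq, hf']; exact hx), zero_mul]
  have hpullP : ∀ (β : AlgebraicCycle X' ℤ) (x' : X'),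
      Cyc.pullFun f δ' δ 0 ⇑(P β) x' = (d : ℤ) * β x' := fun β x' => by
    rw [Cyc.pullFun, if_pos (by rw [hδeq, add_zero])]
    show β (e.symm (f x')) * (f.residueDegree (e.symm (f x')) : ℤ) * _ = _
    rw [hf, ← (hlen x').2]
    ring
  let push : ↥(ChowOps.zk X' δ' i) →+ ↥(ChowOps.zk X δ i) :=
    { toFun := fun β => ⟨P β.1, hPk _ β.2⟩
      map_zero' := Subtype.ext (by
        ext x
        show (0 : ℤ) * _ = 0
        rw [zero_mul])
      map_add' := fun a b => Subtype.ext (by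
        ext x
        show (a.1 (e.symm x) + b.1 (e.symm x)) * _ = _ * _ + _ * _
        rw [add_mul]) }
  have hpush : ChowOps.ratTriv X' δ' i ≤ (ChowOps.ratTriv X δ i).comap push := by
    rw [ChowOps.ratTriv, AddSubgroup.closure_le]
    intro β hβ
    refine AddSubgroup.subset_closure (CycPush.ratEquivZero_map f hX' hX hδ i β.1 hβ (P β.1) fun y => ?_)
    have hs : (f ⁻¹' {y} : Set X') = {e.symm y} :=
      Set.ext fun z => ⟨fun h => hbij.1 ((h : f z = y).trans (hf' y).symm), fun h => by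
        rw [Set.mem_singleton_iff] at h; subst h; exact hf' y⟩
    rw [hs, finsum_mem_singleton, AlgebraicCycle.mapCoeff, if_pos (hδeq _)]
    rfl
  refine ⟨fun β hβ => ⟨P β, hPk β hβ, (d • (⟨β, hβ⟩ : ↥(ChowOps.zk X' δ' i))).1,
      (d • (⟨β, hβ⟩ : ↥(ChowOps.zk X' δ' i))).2, funext fun x' => ?_, map_nsmul _ _ _⟩,
    fun α hα α' hα' hpull h0 => ?_⟩
  · rw [hpullP]
    simp
  · have hmem : (⟨α', hα'⟩ : ↥(ChowOps.zk X' δ' i)) ∈ ChowOps.ratTriv X' δ' i :=
      (QuotientAddGroup.eq_zero_iff _).mp h0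
    have hPα : push ⟨α', hα'⟩ = d • (⟨α, hα⟩ : ↥(ChowOps.zk X δ i)) := Subtype.ext (by
      ext x
      show α' (e.symm x) * (f.residueDegree (e.symm x) : ℤ) = _
      rw [congrFun hpull (e.symm x), Cyc.pullFun, if_pos (by rw [hδeq, add_zero]), mul_assoc, (hlen _).2, hf']
      simp [mul_comm])
    change d • ChowOps.clHom X δ i ⟨α, hα⟩ = 0
    rw [← map_nsmul, ← hPα]
    exact (QuotientAddGroup.eq_zero_iff _).mpr (hpush hmem)

end Groth.Agent.PInsepChow
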